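import Mathlib.FieldTheory.PurelyInseparable.Basic
import Mathlib.FieldTheory.SeparableClosure
import Mathlib.FieldTheory.PrimitiveElement
import Mathlib.RingTheory.Polynomial.GaussLemma
import Mathlib.RingTheory.Flat.Basic

/-!
Linear disjointness of a finite extension from a regular extension.
-/

set_option autoImplicit false

universe u

open TensorProduct Polynomial

namespace GrothLib.ConstDeg29

variable {k L K M : Type u} [Field k] [Field L] [Field K] [Field M] [Algebra k L] [Algebra k K]
  [Algebra k M] [Algebra L M] [Algebra K M] [IsScalarTower k L M] [IsScalarTower k K M]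
  [FiniteDimensional k L]

/-- If `k` is algebraically closed in `K` and `K ⊗ L` is reduced, the compositum has degree `[L : k]`. -/
theorem finrank_dvd (hcl : ∀ z : K, IsIntegral k z → z ∈ Set.range (algebraMap k K))
    (hred : IsReduced (K ⊗[k] L)) : Module.finrank k L ∣ Module.finrank K M := by
  classical
  set S := separableClosure k L
  let fL : L →ₐ[k] M := IsScalarTower.toAlgHom k L M
  let ψ : K ⊗[k] L →ₐ[K] M := Algebra.TensorProduct.lift (Algebra.ofId K M) fL (fun _ _ => mul_comm _ _)
  let ψS : K ⊗[k] S →ₐ[K] M := Algebra.TensorProduct.lift (Algebra.ofId K M) (fL.comp S.val) (fun _ _ => mul_comm _ _)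
  have hψS : Function.Injective ψS := by
    obtain ⟨α, hα⟩ := Field.exists_primitive_element k S
    set α' : M := fL (α : L)
    have hαint : IsIntegral k α' := ((Algebra.IsIntegral.isIntegral (α : L)).map fL)
    have hαK : IsIntegral K α' := hαint.tower_top
    have hdeg : (minpoly k α').natDegree = Module.finrank k S := by
      rw [show α' = (fL.comp S.val) α from rfl,
        minpoly.algHom_eq (fL.comp S.val) (fL.comp S.val).injective α,
        ← IntermediateField.adjoin.finrank (Algebra.IsIntegral.isIntegral α), hα, IntermediateField.finrank_top']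
    have hle : (minpoly k α').natDegree ≤ (minpoly K α').natDegree := by
      have h1 := integralClosure.mem_lifts_of_monic_of_dvd_map K (minpoly.monic hαint) (minpoly.monic hαK)
        (minpoly.dvd_map_of_isScalarTower k K α')
      have h2 : minpoly K α' ∈ lifts (algebraMap k K) := by
        rw [lifts_iff_coeff_lifts] at h1 ⊢
        intro n
        obtain ⟨c, hc⟩ := h1 n
        exact hc ▸ hcl _ c.2
      obtain ⟨g, hg, hgd, hgm⟩ := lifts_and_natDegree_eq_and_monic h2 (minpoly.monic hαK)
      rw [← hgd]
      refine natDegree_le_of_dvd (minpoly.dvd k α' ?_) hgm.ne_zero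
      rw [← aeval_map_algebraMap K, hg, minpoly.aeval]
    have hr : Module.finrank K (LinearMap.range ψS.toLinearMap) ≥ Module.finrank k S := by
      have h3 : (IntermediateField.adjoin K ({α'} : Set M)).toSubalgebra.toSubmodule ≤
          LinearMap.range ψS.toLinearMap := by
        rw [IntermediateField.adjoin_simple_toSubalgebra_of_isAlgebraic hαK.isAlgebraic]
        intro z hz
        have hle' : Algebra.adjoin K {α'} ≤ ψS.range :=
          Algebra.adjoin_le (Set.singleton_subset_iff.2 ⟨1 ⊗ₜ α, by simp [ψS, α']⟩)
        exact hle' hz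
      refine le_trans ?_ (Submodule.finrank_mono h3)
      rw [← hdeg]
      exact hle.trans (IntermediateField.adjoin.finrank hαK).ge
    have hdim : Module.finrank K (K ⊗[k] S) = Module.finrank k S := Module.finrank_baseChange
    show Function.Injective ψS.toLinearMap
    rw [← LinearMap.ker_eq_bot]
    refine Submodule.finrank_eq_zero.1 ?_
    have := LinearMap.finrank_range_add_finrank_ker ψS.toLinearMap
    omega
  obtain ⟨q, hq⟩ := ExpChar.exists k
  haveI : Nontrivial (K ⊗[k] L) := ψ.toRingHom.domain_nontrivial
  haveI : ExpChar (K ⊗[k] L) q :=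
    expChar_of_injective_algebraMap (algebraMap k (K ⊗[k] L)).injective q
  let ι : K ⊗[k] S →ₐ[K] K ⊗[k] L := Algebra.TensorProduct.map (AlgHom.id K K) S.val
  have hι : ψ.comp ι = ψS := by ext; simp [ψ, ψS, ι]
  have hpow : ∀ x : K ⊗[k] L, ∃ n : ℕ, ∃ y : K ⊗[k] S, ι y = x ^ q ^ n := by
    intro x
    induction x using TensorProduct.induction_on with
    | zero => exact ⟨0, 0, by rw [map_zero, pow_zero, pow_one]⟩
    | tmul a l =>
      obtain ⟨n, s, hs⟩ := IsPurelyInseparable.pow_mem (F := S) q l
      refine ⟨n, (a ^ q ^ n) ⊗ₜ[k] s, ?_⟩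
      rw [Algebra.TensorProduct.tmul_pow]
      show (a ^ q ^ n) ⊗ₜ[k] (s : L) = _
      rw [← hs]; rfl
    | add x y hx hy =>
      obtain ⟨m, a, ha⟩ := hx
      obtain ⟨n, b, hb⟩ := hy
      refine ⟨m + n, a ^ q ^ n + b ^ q ^ m, ?_⟩
      show ι.toRingHom _ = _
      rw [add_pow_expChar_pow, map_add, map_pow, map_pow, show ι.toRingHom a = _ from ha,
        show ι.toRingHom b = _ from hb, ← pow_mul, ← pow_mul, ← pow_add, ← pow_add, add_comm n m]
  have hψ : Function.Injective ψ := by
    refine (injective_iff_map_eq_zero ψ).2 fun x hx => ?_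
    obtain ⟨n, y, hy⟩ := hpow x
    have h1 : ψS y = 0 := by
      rw [← hι, AlgHom.comp_apply, hy, map_pow, hx, zero_pow]
      exact pow_ne_zero _ (expChar_pos k q).ne'
    rw [(injective_iff_map_eq_zero ψS).1 hψS y h1, map_zero] at hy
    exact IsNilpotent.eq_zero ⟨q ^ n, hy.symm⟩
  haveI : Algebra.IsIntegral K ψ.range := Algebra.IsIntegral.of_surjective ψ.rangeRestrict ψ.rangeRestrict_surjective
  let E : IntermediateField K M := ψ.range.toIntermediateField' (isField_of_isIntegral_of_isField' (Field.toIsField K))
  have hE : Module.finrank K E = Module.finrank k L := by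
    rw [← Module.finrank_baseChange (S := k) (R := K) (M' := L)]
    exact (LinearEquiv.finrank_eq (AlgEquiv.ofInjective ψ hψ).toLinearEquiv).symm
  exact ⟨_, (hE ▸ Module.finrank_mul_finrank K E M).symm⟩

end GrothLib.ConstDeg29
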