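import Groth.Agent.Lib.ConstDeg29.Field
import Groth.Agent.Lib.QsChow21.Irred
import Mathlib.AlgebraicGeometry.Morphisms.Proper
import Mathlib.AlgebraicGeometry.ResidueField
import Mathlib.AlgebraicGeometry.FunctionField

/-!
Degrees of constant fields divide degrees of function fields.
-/

set_option autoImplicit false

universe u

open CategoryTheory CategoryTheory.Limits AlgebraicGeometry TopologicalSpace Opposite TensorProduct

namespace GrothLib.ConstDeg29

variable {X : Scheme.{u}} [IsIntegral X]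

/-- The residue field at the generic point as fractions of an affine open. -/
theorem generic_facts (ξ : X) (hξ : ξ = genericPoint X) (U : X.Opens) (hU : IsAffineOpen U) (hξU : ξ ∈ U) :
    Function.Injective (X.evaluation U ξ hξU) ∧
      ∀ z : X.residueField ξ, ∃ a b : Γ(X, U), b ≠ 0 ∧ z * X.evaluation U ξ hξU b = X.evaluation U ξ hξU a := by
  subst hξ
  haveI : Nonempty U := ⟨⟨_, hξU⟩⟩
  haveI := functionField_isFractionRing_of_isAffineOpen X U hU
  have hres : Function.Injective (X.residue (genericPoint X)) :=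
    RingHom.injective (show X.functionField →+* X.residueField (genericPoint X) from (X.residue (genericPoint X)).hom)
  refine ⟨hres.comp (IsFractionRing.injective Γ(X, U) X.functionField), fun z => ?_⟩
  obtain ⟨f, rfl⟩ := X.residue_surjective (genericPoint X) z
  obtain ⟨a, b, hb, hf⟩ := IsFractionRing.div_surjective Γ(X, U) (f : X.functionField)
  refine ⟨a, b, nonZeroDivisors.ne_zero hb, ?_⟩
  show X.residue _ f * X.residue _ (algebraMap Γ(X, U) X.functionField b) = X.residue _ (algebraMap Γ(X, U) X.functionField a)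
  rw [← map_mul, ← hf]
  congr 1
  exact div_mul_cancel₀ _ ((map_ne_zero_iff _ (IsFractionRing.injective Γ(X, U) X.functionField)).2
    (nonZeroDivisors.ne_zero hb))

/-- Global functions on a normal integral scheme are integrally closed in the function field. -/
theorem integrallyClosed_facts (hXn : ∀ x : X, IsIntegrallyClosed (X.presheaf.stalk x)) (ξ : X) (hξ : ξ = genericPoint X) :
    letI := (X.Γevaluation ξ).hom.toAlgebra;
    ∀ z : X.residueField ξ, IsIntegral Γ(X, ⊤) z → z ∈ Set.range (algebraMap Γ(X, ⊤) (X.residueField ξ)) := by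
  subst hξ
  letI := (X.Γevaluation (genericPoint X)).hom.toAlgebra
  letI : Algebra Γ(X, ⊤) X.functionField := (X.presheaf.germ ⊤ (genericPoint X) trivial).hom.toAlgebra
  intro z hz
  obtain ⟨f, rfl⟩ := X.residue_surjective (genericPoint X) z
  let r : X.functionField →ₐ[Γ(X, ⊤)] X.residueField (genericPoint X) :=
    { (X.residue (genericPoint X)).hom with commutes' := fun _ => rfl }
  have hf : IsIntegral Γ(X, ⊤) (f : X.functionField) :=
    (isIntegral_algHom_iff r r.toRingHom.injective).1 hz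
  obtain ⟨s, hs⟩ := GrothLib.QsChow21.exists_global (f : X.functionField) fun x => by
    haveI := hXn x
    letI : Algebra Γ(X, ⊤) (X.presheaf.stalk x) := (X.presheaf.germ ⊤ x trivial).hom.toAlgebra
    haveI : IsScalarTower Γ(X, ⊤) (X.presheaf.stalk x) X.functionField :=
      IsScalarTower.of_algebraMap_eq fun a =>
        (X.presheaf.germ_stalkSpecializes_apply (U := ⊤) trivial ((genericPoint_spec X).specializes trivial) a).symm
    exact IsIntegrallyClosed.isIntegral_iff.1 hf.tower_top
  exact ⟨s, congrArg (X.residue (genericPoint X)) hs⟩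

theorem isReduced_tensor_residueField (ξ : X) (hξ : ξ = genericPoint X) (hF : IsField Γ(X, ⊤))
    (L : Type u) [Field L] (i : Γ(X, ⊤) →+* L)
    (hred : AlgebraicGeometry.IsReduced (pullback X.toSpecΓ (Spec.map (CommRingCat.ofHom i)))) :
    letI := (X.Γevaluation ξ).hom.toAlgebra;
    letI := i.toAlgebra;
    _root_.IsReduced (X.residueField ξ ⊗[Γ(X, ⊤)] L) := by
  letI := hF.toField
  letI := (X.Γevaluation ξ).hom.toAlgebra
  letI := i.toAlgebra
  obtain ⟨_, ⟨U, hU, rfl⟩, hξU, -⟩ :=
    X.isBasis_affineOpens.exists_subset_of_mem_open (Set.mem_univ ξ) isOpen_univ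
  obtain ⟨hinj, hfrac⟩ := generic_facts ξ hξ U hU hξU
  haveI : Nonempty U := ⟨⟨_, hξU⟩⟩
  letI : Algebra Γ(X, ⊤) Γ(X, U) := (X.presheaf.map (homOfLE (le_top : U ≤ ⊤)).op).hom.toAlgebra
  let e : Γ(X, U) →ₐ[Γ(X, ⊤)] X.residueField ξ :=
    { (X.evaluation U ξ hξU).hom with
      commutes' := fun a => congrArg (X.residue ξ) (X.presheaf.germ_res_apply (homOfLE (le_top : U ≤ ⊤)) ξ hξU a) }
  haveI hA : _root_.IsReduced (Γ(X, U) ⊗[Γ(X, ⊤)] L) := by
    let g := pullback.map (Spec.map (CommRingCat.ofHom (algebraMap Γ(X, ⊤) Γ(X, U))))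
      (Spec.map (CommRingCat.ofHom (algebraMap Γ(X, ⊤) L))) X.toSpecΓ (Spec.map (CommRingCat.ofHom i))
      hU.fromSpec (𝟙 _) (𝟙 _) (by rw [Category.comp_id]; exact (hU.fromSpec_toSpecΓ).symm)
      (by rw [Category.comp_id, Category.id_comp])
    haveI : IsOpenImmersion g := inferInstance
    haveI := hred
    haveI := isReduced_of_isOpenImmersion g
    haveI := isReduced_of_isOpenImmersion (pullbackSpecIso Γ(X, ⊤) Γ(X, U) L).inv
    exact (affine_isReduced_iff (CommRingCat.of (Γ(X, U) ⊗[Γ(X, ⊤)] L))).1 inferInstance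
  let E : Γ(X, U) ⊗[Γ(X, ⊤)] L →ₐ[Γ(X, ⊤)] X.residueField ξ ⊗[Γ(X, ⊤)] L :=
    Algebra.TensorProduct.map e (AlgHom.id _ _)
  have hE : Function.Injective E := by
    have := Module.Flat.rTensor_preserves_injective_linearMap (M := L) e.toLinearMap hinj
    exact this
  have hden : ∀ x : X.residueField ξ ⊗[Γ(X, ⊤)] L, ∃ b : Γ(X, U), b ≠ 0 ∧ ∃ y, E y = (e b ⊗ₜ 1) * x := by
    intro x
    induction x using TensorProduct.induction_on with
    | zero => exact ⟨1, one_ne_zero, 0, by rw [map_zero, mul_zero]⟩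
    | tmul z l =>
      obtain ⟨a, b, hb, hab⟩ := hfrac z
      refine ⟨b, hb, a ⊗ₜ l, ?_⟩
      rw [Algebra.TensorProduct.tmul_mul_tmul, one_mul]
      show e a ⊗ₜ[Γ(X, ⊤)] l = _
      rw [show e a = e b * z from hab.symm.trans (mul_comm _ _)]
    | add x x' hx hx' =>
      obtain ⟨b, hb, y, hy⟩ := hx
      obtain ⟨b', hb', y', hy'⟩ := hx'
      refine ⟨b * b', mul_ne_zero hb hb', (b' ⊗ₜ 1) * y + (b ⊗ₜ 1) * y', ?_⟩
      rw [map_add, map_mul, map_mul, hy, hy', show E (b' ⊗ₜ 1) = e b' ⊗ₜ 1 from rfl,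
        show E (b ⊗ₜ 1) = e b ⊗ₜ 1 from rfl, map_mul, mul_add, ← mul_assoc, ← mul_assoc,
        Algebra.TensorProduct.tmul_mul_tmul, Algebra.TensorProduct.tmul_mul_tmul, mul_one, mul_comm (e b')]
  refine ⟨fun x hx => ?_⟩
  obtain ⟨n, hn⟩ := hx
  obtain ⟨b, hb, y, hy⟩ := hden x
  have hy0 : y = 0 := IsReduced.eq_zero y ⟨n, hE (by rw [map_pow, hy, mul_pow, hn, mul_zero, map_zero])⟩
  rw [hy0, map_zero] at hy
  have hu : IsUnit (e b ⊗ₜ[Γ(X, ⊤)] (1 : L)) :=
    ((isUnit_iff_ne_zero.2 ((map_ne_zero_iff _ hinj).2 hb)).map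
      (Algebra.TensorProduct.includeLeft (R := Γ(X, ⊤)) (S := Γ(X, ⊤)) (A := X.residueField ξ) (B := L)))
  exact hu.mul_right_eq_zero.1 hy.symm

theorem main (k : Type u) [Field k] {Z : Scheme.{u}} [X.Over (Spec (CommRingCat.of k))]
    [Z.Over (Spec (CommRingCat.of k))] [IsIntegral Z]
    [IsProper (X ↘ Spec (CommRingCat.of k))] [IsProper (Z ↘ Spec (CommRingCat.of k))]
    (hXn : ∀ x : X, IsIntegrallyClosed (X.presheaf.stalk x))
    (f : Z ⟶ X) (hf : f ≫ (X ↘ Spec (CommRingCat.of k)) = Z ↘ Spec (CommRingCat.of k))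
    [IsFinite f] [Surjective f]
    (hgr : ∀ (E : Type u) [Field E] (i : Γ(X, ⊤) →+* E),
      AlgebraicGeometry.IsReduced (pullback X.toSpecΓ (Spec.map (CommRingCat.ofHom i)))) :
    letI := f.appTop.hom.toAlgebra;
    letI := (f.residueFieldMap (genericPoint Z)).hom.toAlgebra;
    Module.finrank Γ(X, ⊤) Γ(Z, ⊤) ∣
      Module.finrank (X.residueField (f.base (genericPoint Z))) (Z.residueField (genericPoint Z)) := by
  letI := (isField_of_universallyClosed k (X ↘ Spec (CommRingCat.of k))).toField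
  letI := (isField_of_universallyClosed k (Z ↘ Spec (CommRingCat.of k))).toField
  letI := f.appTop.hom.toAlgebra
  letI := (f.residueFieldMap (genericPoint Z)).hom.toAlgebra
  have hξ : f.base (genericPoint Z) = genericPoint X := by
    refine IsGenericPoint.eq ?_ (genericPoint_spec X)
    have h := (genericPoint_spec Z).image f.continuous
    rwa [Set.image_univ, f.surjective.range_eq, closure_univ] at h
  haveI : FiniteDimensional Γ(X, ⊤) Γ(Z, ⊤) := by
    have h1 := finite_appTop_of_universallyClosed k (Z ↘ Spec (CommRingCat.of k))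
    have e1 : (Z ↘ Spec (CommRingCat.of k)).appTop =
        (X ↘ Spec (CommRingCat.of k)).appTop ≫ f.appTop := by rw [← hf, Scheme.Hom.comp_appTop]
    rw [e1] at h1
    exact RingHom.Finite.of_comp_finite h1
  letI := (X.Γevaluation (f.base (genericPoint Z))).hom.toAlgebra
  letI := (Z.Γevaluation (genericPoint Z)).hom.toAlgebra
  letI : Algebra Γ(X, ⊤) (Z.residueField (genericPoint Z)) :=
    ((f.residueFieldMap (genericPoint Z)).hom.comp (X.Γevaluation (f.base (genericPoint Z))).hom).toAlgebra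
  haveI : IsScalarTower Γ(X, ⊤) (X.residueField (f.base (genericPoint Z))) (Z.residueField (genericPoint Z)) :=
    IsScalarTower.of_algebraMap_eq fun _ => rfl
  haveI : IsScalarTower Γ(X, ⊤) Γ(Z, ⊤) (Z.residueField (genericPoint Z)) :=
    IsScalarTower.of_algebraMap_eq fun a => Scheme.Γevaluation_naturality_apply f (genericPoint Z) a
  exact finrank_dvd (integrallyClosed_facts hXn _ hξ)
    (isReduced_tensor_residueField _ hξ (isField_of_universallyClosed k (X ↘ Spec (CommRingCat.of k)))
      Γ(Z, ⊤) f.appTop.hom (hgr _ _))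

end GrothLib.ConstDeg29
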